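import Cfsg.Agent.H16.CertArr
import Cfsg.Agent.H9.ON.LabData0
import Cfsg.Agent.H9.ON.LabData1
import Cfsg.Agent.H9.ON.LabData2
import Cfsg.Agent.H9.ON.LabData3
import Cfsg.Agent.H9.ON.LabData4
import Cfsg.Agent.H9.ON.LabData5
import Cfsg.Agent.H9.ON.LabData6

/-! The checks for the labelling of the coset table of the O'Nan group by integers modulo three. -/

set_option autoImplicit false

namespace Cfsg.Agent.H9.ON

open Cfsg.Agent.H16

/-- The array of a generator. -/
noncomputable def arrOf : Nat → PArr
  | 0 => labArr0
  | 1 => labArr1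
  | 2 => labArr2
  | 3 => labArr3
  | 4 => labArr4
  | 5 => labArr5
  | _ => labArr6

/-- One step: the state is four times the point plus the label. -/
noncomputable def stepL (a : PArr) (s : Nat) : Nat :=
  forceNat (a.get 19 (Nat.div s 4)) fun e =>
    Nat.add (Nat.mul (Nat.div e 4) 4) (Nat.mod (Nat.add (Nat.mod e 4) (Nat.mod s 4)) 3)

/-- A walk. -/
noncomputable def runL (w : List PArr) : Nat → Nat :=
  List.rec (motive := fun _ => Nat → Nat) (fun s => s)
    (fun a _ ih s => forceNat s fun s => ih (stepL a s)) w

/-- The relator words with their constants. -/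
noncomputable def relList : List (List PArr × Nat) :=
  [([], 0),
   ([labArr0, labArr0], 0),
   ([labArr1, labArr1], 0),
   ([labArr2, labArr2], 0),
   ([labArr3, labArr3], 0),
   ([labArr4, labArr4], 0),
   ([labArr5, labArr5], 0),
   ([labArr6, labArr6], 0),
   ([labArr1, labArr0, labArr1, labArr0, labArr1, labArr0], 0),
   ([labArr2, labArr0, labArr2, labArr0], 0),
   ([labArr3, labArr0, labArr3, labArr0], 0),
   ([labArr4, labArr0, labArr4, labArr0], 0),
   ([labArr5, labArr0, labArr5, labArr0], 0),
   ([labArr2, labArr1, labArr2, labArr1, labArr2, labArr1], 0),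
   ([labArr3, labArr1, labArr3, labArr1], 0),
   ([labArr4, labArr1, labArr4, labArr1], 0),
   ([labArr5, labArr1, labArr5, labArr1], 0),
   ([labArr3, labArr2, labArr3, labArr2, labArr3, labArr2, labArr3, labArr2, labArr3, labArr2, labArr3, labArr2, labArr3, labArr2, labArr3, labArr2], 0),
   ([labArr4, labArr2, labArr4, labArr2], 0),
   ([labArr5, labArr2, labArr5, labArr2], 0),
   ([labArr4, labArr3, labArr4, labArr3, labArr4, labArr3], 0),
   ([labArr5, labArr3, labArr5, labArr3], 0),
   ([labArr5, labArr4, labArr5, labArr4, labArr5, labArr4], 0),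
   ([labArr6, labArr3, labArr2, labArr3, labArr2, labArr6, labArr3, labArr2, labArr3, labArr2, labArr5, labArr0], 0),
   ([labArr2, labArr3, labArr2, labArr3, labArr2, labArr3, labArr2, labArr3, labArr5, labArr0], 0),
   ([labArr2, labArr3, labArr2, labArr3, labArr6, labArr3, labArr2, labArr3, labArr2, labArr3, labArr6, labArr3, labArr2, labArr3, labArr6, labArr3, labArr2, labArr3, labArr2, labArr3, labArr6, labArr3, labArr2, labArr3], 0),
   ([labArr2, labArr3, labArr2, labArr3, labArr6, labArr3, labArr2, labArr3, labArr6, labArr2, labArr3, labArr2, labArr6, labArr3, labArr2, labArr3, labArr6, labArr3, labArr2, labArr3, labArr2, labArr3], 0),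
   ([labArr2, labArr3, labArr2, labArr3, labArr6, labArr3, labArr2, labArr1, labArr2, labArr3, labArr2, labArr3, labArr6, labArr3, labArr2, labArr1, labArr2, labArr3, labArr2, labArr3, labArr6, labArr3, labArr2, labArr1, labArr2, labArr3, labArr2, labArr3, labArr6, labArr3, labArr2, labArr1, labArr2, labArr3, labArr2, labArr3, labArr6, labArr3, labArr2, labArr1], 1),
   ([labArr3, labArr2, labArr3, labArr6, labArr2, labArr1, labArr2, labArr3, labArr2, labArr3, labArr6, labArr1, labArr3, labArr2, labArr3, labArr6, labArr2, labArr1, labArr2, labArr3, labArr2, labArr3, labArr6], 1),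
   ([labArr3, labArr2, labArr3, labArr2, labArr3, labArr6, labArr3, labArr4, labArr2, labArr3, labArr2, labArr3, labArr6, labArr4, labArr3, labArr2, labArr3, labArr2, labArr3, labArr6, labArr3, labArr4, labArr2, labArr3, labArr2, labArr3, labArr6], 1)]

/-- All relators at one point. -/
noncomputable def relRowList (s : Nat) (l : List (List PArr × Nat)) : Bool :=
  List.rec (motive := fun _ => Bool) true
    (fun p _ ih => and (Nat.beq (runL p.1 s) (Nat.add s p.2)) ih) l

/-- The check at a point. -/
noncomputable def relRow (i : Nat) : Bool :=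
  forceNat (Nat.mul i 4) fun s => relRowList s relList

end Cfsg.Agent.H9.ON
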