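import Cfsg.Agent.H9.ON.RelRows0
import Cfsg.Agent.H9.ON.RelRows1
import Cfsg.Agent.H9.ON.RelRows2
import Cfsg.Agent.H9.ON.RelRows3
import Cfsg.Agent.H9.ON.RelRows4
import Cfsg.Agent.H9.ON.RelRows5
import Cfsg.Agent.H9.ON.RelRows6
import Cfsg.Agent.H9.ON.RelRows7
import Cfsg.Agent.H9.ON.RelRows8
import Cfsg.Agent.H9.ON.RelRows9
import Cfsg.Agent.H9.ON.RelRows10
import Cfsg.Agent.H9.ON.RelRows11
import Cfsg.Agent.H9.ON.RelRows12
import Cfsg.Agent.H9.ON.RelRows13
import Cfsg.Agent.H9.ON.RelRows14
import Cfsg.Agent.H9.ON.RelRows15
import Cfsg.Agent.H9.ON.RelRows16
import Cfsg.Agent.H9.ON.RelRows17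
import Cfsg.Agent.H9.ON.RelRows18
import Cfsg.Agent.H9.ON.RelRows19
import Cfsg.Agent.H9.ON.RelRows20
import Cfsg.Agent.H9.ON.RelRows21
import Cfsg.Agent.H9.ON.RelRows22
import Cfsg.Agent.H9.ON.RelRows23
import Cfsg.Agent.H9.ON.OverRows0
import Cfsg.Agent.H9.ON.OverRows1
import Cfsg.Agent.H9.ON.OverRows2
import Cfsg.Agent.H9.ON.OverRows3
import Cfsg.Agent.H9.ON.OverRows4
import Cfsg.Agent.H9.ON.OverRows5
import Cfsg.Agent.H9.ON.OverRows6
import Cfsg.Agent.H9.ON.OverRows7

/-! The checks at all points. -/

set_option autoImplicit false

namespace Cfsg.Agent.H9.ON

open Cfsg.Agent.H16

theorem relTo0 : ∀ i, i < 5115 → relRow i = true :=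
  (allFrom_extend (allFrom_extend (allFrom_extend (allFrom_extend (allFrom_extend (allFrom_extend (allFrom_extend (allFrom_extend (allFrom_extend (allFrom_extend (allFrom_extend (allFrom_extend (allFrom_extend (allFrom_extend (allFrom_extend allFrom_nil
    relRows_0)
    relRows_341)
    relRows_682)
    relRows_1023)
    relRows_1364)
    relRows_1705)
    relRows_2046)
    relRows_2387)
    relRows_2728)
    relRows_3069)
    relRows_3410)
    relRows_3751)
    relRows_4092)
    relRows_4433)
    relRows_4774)

theorem relTo1 : ∀ i, i < 10230 → relRow i = true :=
  (allFrom_extend (allFrom_extend (allFrom_extend (allFrom_extend (allFrom_extend (allFrom_extend (allFrom_extend (allFrom_extend (allFrom_extend (allFrom_extend (allFrom_extend (allFrom_extend (allFrom_extend (allFrom_extend (allFrom_extend relTo0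
    relRows_5115)
    relRows_5456)
    relRows_5797)
    relRows_6138)
    relRows_6479)
    relRows_6820)
    relRows_7161)
    relRows_7502)
    relRows_7843)
    relRows_8184)
    relRows_8525)
    relRows_8866)
    relRows_9207)
    relRows_9548)
    relRows_9889)

theorem relTo2 : ∀ i, i < 15345 → relRow i = true :=
  (allFrom_extend (allFrom_extend (allFrom_extend (allFrom_extend (allFrom_extend (allFrom_extend (allFrom_extend (allFrom_extend (allFrom_extend (allFrom_extend (allFrom_extend (allFrom_extend (allFrom_extend (allFrom_extend (allFrom_extend relTo1
    relRows_10230)
    relRows_10571)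
    relRows_10912)
    relRows_11253)
    relRows_11594)
    relRows_11935)
    relRows_12276)
    relRows_12617)
    relRows_12958)
    relRows_13299)
    relRows_13640)
    relRows_13981)
    relRows_14322)
    relRows_14663)
    relRows_15004)

theorem relTo3 : ∀ i, i < 20460 → relRow i = true :=
  (allFrom_extend (allFrom_extend (allFrom_extend (allFrom_extend (allFrom_extend (allFrom_extend (allFrom_extend (allFrom_extend (allFrom_extend (allFrom_extend (allFrom_extend (allFrom_extend (allFrom_extend (allFrom_extend (allFrom_extend relTo2
    relRows_15345)
    relRows_15686)
    relRows_16027)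
    relRows_16368)
    relRows_16709)
    relRows_17050)
    relRows_17391)
    relRows_17732)
    relRows_18073)
    relRows_18414)
    relRows_18755)
    relRows_19096)
    relRows_19437)
    relRows_19778)
    relRows_20119)

theorem relTo4 : ∀ i, i < 25575 → relRow i = true :=
  (allFrom_extend (allFrom_extend (allFrom_extend (allFrom_extend (allFrom_extend (allFrom_extend (allFrom_extend (allFrom_extend (allFrom_extend (allFrom_extend (allFrom_extend (allFrom_extend (allFrom_extend (allFrom_extend (allFrom_extend relTo3
    relRows_20460)
    relRows_20801)
    relRows_21142)
    relRows_21483)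
    relRows_21824)
    relRows_22165)
    relRows_22506)
    relRows_22847)
    relRows_23188)
    relRows_23529)
    relRows_23870)
    relRows_24211)
    relRows_24552)
    relRows_24893)
    relRows_25234)

theorem relTo5 : ∀ i, i < 30690 → relRow i = true :=
  (allFrom_extend (allFrom_extend (allFrom_extend (allFrom_extend (allFrom_extend (allFrom_extend (allFrom_extend (allFrom_extend (allFrom_extend (allFrom_extend (allFrom_extend (allFrom_extend (allFrom_extend (allFrom_extend (allFrom_extend relTo4
    relRows_25575)
    relRows_25916)
    relRows_26257)
    relRows_26598)
    relRows_26939)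
    relRows_27280)
    relRows_27621)
    relRows_27962)
    relRows_28303)
    relRows_28644)
    relRows_28985)
    relRows_29326)
    relRows_29667)
    relRows_30008)
    relRows_30349)

theorem relTo6 : ∀ i, i < 35805 → relRow i = true :=
  (allFrom_extend (allFrom_extend (allFrom_extend (allFrom_extend (allFrom_extend (allFrom_extend (allFrom_extend (allFrom_extend (allFrom_extend (allFrom_extend (allFrom_extend (allFrom_extend (allFrom_extend (allFrom_extend (allFrom_extend relTo5
    relRows_30690)
    relRows_31031)
    relRows_31372)
    relRows_31713)
    relRows_32054)
    relRows_32395)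
    relRows_32736)
    relRows_33077)
    relRows_33418)
    relRows_33759)
    relRows_34100)
    relRows_34441)
    relRows_34782)
    relRows_35123)
    relRows_35464)

theorem relTo7 : ∀ i, i < 40920 → relRow i = true :=
  (allFrom_extend (allFrom_extend (allFrom_extend (allFrom_extend (allFrom_extend (allFrom_extend (allFrom_extend (allFrom_extend (allFrom_extend (allFrom_extend (allFrom_extend (allFrom_extend (allFrom_extend (allFrom_extend (allFrom_extend relTo6
    relRows_35805)
    relRows_36146)
    relRows_36487)
    relRows_36828)
    relRows_37169)
    relRows_37510)
    relRows_37851)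
    relRows_38192)
    relRows_38533)
    relRows_38874)
    relRows_39215)
    relRows_39556)
    relRows_39897)
    relRows_40238)
    relRows_40579)

theorem relTo8 : ∀ i, i < 46035 → relRow i = true :=
  (allFrom_extend (allFrom_extend (allFrom_extend (allFrom_extend (allFrom_extend (allFrom_extend (allFrom_extend (allFrom_extend (allFrom_extend (allFrom_extend (allFrom_extend (allFrom_extend (allFrom_extend (allFrom_extend (allFrom_extend relTo7
    relRows_40920)
    relRows_41261)
    relRows_41602)
    relRows_41943)
    relRows_42284)
    relRows_42625)
    relRows_42966)
    relRows_43307)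
    relRows_43648)
    relRows_43989)
    relRows_44330)
    relRows_44671)
    relRows_45012)
    relRows_45353)
    relRows_45694)

theorem relTo9 : ∀ i, i < 51150 → relRow i = true :=
  (allFrom_extend (allFrom_extend (allFrom_extend (allFrom_extend (allFrom_extend (allFrom_extend (allFrom_extend (allFrom_extend (allFrom_extend (allFrom_extend (allFrom_extend (allFrom_extend (allFrom_extend (allFrom_extend (allFrom_extend relTo8
    relRows_46035)
    relRows_46376)
    relRows_46717)
    relRows_47058)
    relRows_47399)
    relRows_47740)
    relRows_48081)
    relRows_48422)
    relRows_48763)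
    relRows_49104)
    relRows_49445)
    relRows_49786)
    relRows_50127)
    relRows_50468)
    relRows_50809)

theorem relTo10 : ∀ i, i < 56265 → relRow i = true :=
  (allFrom_extend (allFrom_extend (allFrom_extend (allFrom_extend (allFrom_extend (allFrom_extend (allFrom_extend (allFrom_extend (allFrom_extend (allFrom_extend (allFrom_extend (allFrom_extend (allFrom_extend (allFrom_extend (allFrom_extend relTo9
    relRows_51150)
    relRows_51491)
    relRows_51832)
    relRows_52173)
    relRows_52514)
    relRows_52855)
    relRows_53196)
    relRows_53537)
    relRows_53878)
    relRows_54219)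
    relRows_54560)
    relRows_54901)
    relRows_55242)
    relRows_55583)
    relRows_55924)

theorem relTo11 : ∀ i, i < 61380 → relRow i = true :=
  (allFrom_extend (allFrom_extend (allFrom_extend (allFrom_extend (allFrom_extend (allFrom_extend (allFrom_extend (allFrom_extend (allFrom_extend (allFrom_extend (allFrom_extend (allFrom_extend (allFrom_extend (allFrom_extend (allFrom_extend relTo10
    relRows_56265)
    relRows_56606)
    relRows_56947)
    relRows_57288)
    relRows_57629)
    relRows_57970)
    relRows_58311)
    relRows_58652)
    relRows_58993)
    relRows_59334)
    relRows_59675)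
    relRows_60016)
    relRows_60357)
    relRows_60698)
    relRows_61039)

theorem relTo12 : ∀ i, i < 66495 → relRow i = true :=
  (allFrom_extend (allFrom_extend (allFrom_extend (allFrom_extend (allFrom_extend (allFrom_extend (allFrom_extend (allFrom_extend (allFrom_extend (allFrom_extend (allFrom_extend (allFrom_extend (allFrom_extend (allFrom_extend (allFrom_extend relTo11
    relRows_61380)
    relRows_61721)
    relRows_62062)
    relRows_62403)
    relRows_62744)
    relRows_63085)
    relRows_63426)
    relRows_63767)
    relRows_64108)
    relRows_64449)
    relRows_64790)
    relRows_65131)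
    relRows_65472)
    relRows_65813)
    relRows_66154)

theorem relTo13 : ∀ i, i < 71610 → relRow i = true :=
  (allFrom_extend (allFrom_extend (allFrom_extend (allFrom_extend (allFrom_extend (allFrom_extend (allFrom_extend (allFrom_extend (allFrom_extend (allFrom_extend (allFrom_extend (allFrom_extend (allFrom_extend (allFrom_extend (allFrom_extend relTo12
    relRows_66495)
    relRows_66836)
    relRows_67177)
    relRows_67518)
    relRows_67859)
    relRows_68200)
    relRows_68541)
    relRows_68882)
    relRows_69223)
    relRows_69564)
    relRows_69905)
    relRows_70246)
    relRows_70587)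
    relRows_70928)
    relRows_71269)

theorem relTo14 : ∀ i, i < 76725 → relRow i = true :=
  (allFrom_extend (allFrom_extend (allFrom_extend (allFrom_extend (allFrom_extend (allFrom_extend (allFrom_extend (allFrom_extend (allFrom_extend (allFrom_extend (allFrom_extend (allFrom_extend (allFrom_extend (allFrom_extend (allFrom_extend relTo13
    relRows_71610)
    relRows_71951)
    relRows_72292)
    relRows_72633)
    relRows_72974)
    relRows_73315)
    relRows_73656)
    relRows_73997)
    relRows_74338)
    relRows_74679)
    relRows_75020)
    relRows_75361)
    relRows_75702)
    relRows_76043)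
    relRows_76384)

theorem relTo15 : ∀ i, i < 81840 → relRow i = true :=
  (allFrom_extend (allFrom_extend (allFrom_extend (allFrom_extend (allFrom_extend (allFrom_extend (allFrom_extend (allFrom_extend (allFrom_extend (allFrom_extend (allFrom_extend (allFrom_extend (allFrom_extend (allFrom_extend (allFrom_extend relTo14
    relRows_76725)
    relRows_77066)
    relRows_77407)
    relRows_77748)
    relRows_78089)
    relRows_78430)
    relRows_78771)
    relRows_79112)
    relRows_79453)
    relRows_79794)
    relRows_80135)
    relRows_80476)
    relRows_80817)
    relRows_81158)
    relRows_81499)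

theorem relTo16 : ∀ i, i < 86955 → relRow i = true :=
  (allFrom_extend (allFrom_extend (allFrom_extend (allFrom_extend (allFrom_extend (allFrom_extend (allFrom_extend (allFrom_extend (allFrom_extend (allFrom_extend (allFrom_extend (allFrom_extend (allFrom_extend (allFrom_extend (allFrom_extend relTo15
    relRows_81840)
    relRows_82181)
    relRows_82522)
    relRows_82863)
    relRows_83204)
    relRows_83545)
    relRows_83886)
    relRows_84227)
    relRows_84568)
    relRows_84909)
    relRows_85250)
    relRows_85591)
    relRows_85932)
    relRows_86273)
    relRows_86614)

theorem relTo17 : ∀ i, i < 92070 → relRow i = true :=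
  (allFrom_extend (allFrom_extend (allFrom_extend (allFrom_extend (allFrom_extend (allFrom_extend (allFrom_extend (allFrom_extend (allFrom_extend (allFrom_extend (allFrom_extend (allFrom_extend (allFrom_extend (allFrom_extend (allFrom_extend relTo16
    relRows_86955)
    relRows_87296)
    relRows_87637)
    relRows_87978)
    relRows_88319)
    relRows_88660)
    relRows_89001)
    relRows_89342)
    relRows_89683)
    relRows_90024)
    relRows_90365)
    relRows_90706)
    relRows_91047)
    relRows_91388)
    relRows_91729)

theorem relTo18 : ∀ i, i < 97185 → relRow i = true :=
  (allFrom_extend (allFrom_extend (allFrom_extend (allFrom_extend (allFrom_extend (allFrom_extend (allFrom_extend (allFrom_extend (allFrom_extend (allFrom_extend (allFrom_extend (allFrom_extend (allFrom_extend (allFrom_extend (allFrom_extend relTo17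
    relRows_92070)
    relRows_92411)
    relRows_92752)
    relRows_93093)
    relRows_93434)
    relRows_93775)
    relRows_94116)
    relRows_94457)
    relRows_94798)
    relRows_95139)
    relRows_95480)
    relRows_95821)
    relRows_96162)
    relRows_96503)
    relRows_96844)

theorem relTo19 : ∀ i, i < 102300 → relRow i = true :=
  (allFrom_extend (allFrom_extend (allFrom_extend (allFrom_extend (allFrom_extend (allFrom_extend (allFrom_extend (allFrom_extend (allFrom_extend (allFrom_extend (allFrom_extend (allFrom_extend (allFrom_extend (allFrom_extend (allFrom_extend relTo18
    relRows_97185)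
    relRows_97526)
    relRows_97867)
    relRows_98208)
    relRows_98549)
    relRows_98890)
    relRows_99231)
    relRows_99572)
    relRows_99913)
    relRows_100254)
    relRows_100595)
    relRows_100936)
    relRows_101277)
    relRows_101618)
    relRows_101959)

theorem relTo20 : ∀ i, i < 107415 → relRow i = true :=
  (allFrom_extend (allFrom_extend (allFrom_extend (allFrom_extend (allFrom_extend (allFrom_extend (allFrom_extend (allFrom_extend (allFrom_extend (allFrom_extend (allFrom_extend (allFrom_extend (allFrom_extend (allFrom_extend (allFrom_extend relTo19
    relRows_102300)
    relRows_102641)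
    relRows_102982)
    relRows_103323)
    relRows_103664)
    relRows_104005)
    relRows_104346)
    relRows_104687)
    relRows_105028)
    relRows_105369)
    relRows_105710)
    relRows_106051)
    relRows_106392)
    relRows_106733)
    relRows_107074)

theorem relTo21 : ∀ i, i < 112530 → relRow i = true :=
  (allFrom_extend (allFrom_extend (allFrom_extend (allFrom_extend (allFrom_extend (allFrom_extend (allFrom_extend (allFrom_extend (allFrom_extend (allFrom_extend (allFrom_extend (allFrom_extend (allFrom_extend (allFrom_extend (allFrom_extend relTo20
    relRows_107415)
    relRows_107756)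
    relRows_108097)
    relRows_108438)
    relRows_108779)
    relRows_109120)
    relRows_109461)
    relRows_109802)
    relRows_110143)
    relRows_110484)
    relRows_110825)
    relRows_111166)
    relRows_111507)
    relRows_111848)
    relRows_112189)

theorem relTo22 : ∀ i, i < 117645 → relRow i = true :=
  (allFrom_extend (allFrom_extend (allFrom_extend (allFrom_extend (allFrom_extend (allFrom_extend (allFrom_extend (allFrom_extend (allFrom_extend (allFrom_extend (allFrom_extend (allFrom_extend (allFrom_extend (allFrom_extend (allFrom_extend relTo21
    relRows_112530)
    relRows_112871)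
    relRows_113212)
    relRows_113553)
    relRows_113894)
    relRows_114235)
    relRows_114576)
    relRows_114917)
    relRows_115258)
    relRows_115599)
    relRows_115940)
    relRows_116281)
    relRows_116622)
    relRows_116963)
    relRows_117304)

theorem relTo23 : ∀ i, i < 122760 → relRow i = true :=
  (allFrom_extend (allFrom_extend (allFrom_extend (allFrom_extend (allFrom_extend (allFrom_extend (allFrom_extend (allFrom_extend (allFrom_extend (allFrom_extend (allFrom_extend (allFrom_extend (allFrom_extend (allFrom_extend (allFrom_extend relTo22
    relRows_117645)
    relRows_117986)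
    relRows_118327)
    relRows_118668)
    relRows_119009)
    relRows_119350)
    relRows_119691)
    relRows_120032)
    relRows_120373)
    relRows_120714)
    relRows_121055)
    relRows_121396)
    relRows_121737)
    relRows_122078)
    relRows_122419)

theorem overTo0 : ∀ i, i < 15345 → overRow i = true :=
  (allFrom_extend (allFrom_extend (allFrom_extend (allFrom_extend (allFrom_extend (allFrom_extend (allFrom_extend (allFrom_extend (allFrom_extend (allFrom_extend (allFrom_extend (allFrom_extend (allFrom_extend (allFrom_extend (allFrom_extend allFrom_nil
    overRows_0)
    overRows_1023)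
    overRows_2046)
    overRows_3069)
    overRows_4092)
    overRows_5115)
    overRows_6138)
    overRows_7161)
    overRows_8184)
    overRows_9207)
    overRows_10230)
    overRows_11253)
    overRows_12276)
    overRows_13299)
    overRows_14322)

theorem overTo1 : ∀ i, i < 30690 → overRow i = true :=
  (allFrom_extend (allFrom_extend (allFrom_extend (allFrom_extend (allFrom_extend (allFrom_extend (allFrom_extend (allFrom_extend (allFrom_extend (allFrom_extend (allFrom_extend (allFrom_extend (allFrom_extend (allFrom_extend (allFrom_extend overTo0
    overRows_15345)
    overRows_16368)
    overRows_17391)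
    overRows_18414)
    overRows_19437)
    overRows_20460)
    overRows_21483)
    overRows_22506)
    overRows_23529)
    overRows_24552)
    overRows_25575)
    overRows_26598)
    overRows_27621)
    overRows_28644)
    overRows_29667)

theorem overTo2 : ∀ i, i < 46035 → overRow i = true :=
  (allFrom_extend (allFrom_extend (allFrom_extend (allFrom_extend (allFrom_extend (allFrom_extend (allFrom_extend (allFrom_extend (allFrom_extend (allFrom_extend (allFrom_extend (allFrom_extend (allFrom_extend (allFrom_extend (allFrom_extend overTo1
    overRows_30690)
    overRows_31713)
    overRows_32736)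
    overRows_33759)
    overRows_34782)
    overRows_35805)
    overRows_36828)
    overRows_37851)
    overRows_38874)
    overRows_39897)
    overRows_40920)
    overRows_41943)
    overRows_42966)
    overRows_43989)
    overRows_45012)

theorem overTo3 : ∀ i, i < 61380 → overRow i = true :=
  (allFrom_extend (allFrom_extend (allFrom_extend (allFrom_extend (allFrom_extend (allFrom_extend (allFrom_extend (allFrom_extend (allFrom_extend (allFrom_extend (allFrom_extend (allFrom_extend (allFrom_extend (allFrom_extend (allFrom_extend overTo2
    overRows_46035)
    overRows_47058)
    overRows_48081)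
    overRows_49104)
    overRows_50127)
    overRows_51150)
    overRows_52173)
    overRows_53196)
    overRows_54219)
    overRows_55242)
    overRows_56265)
    overRows_57288)
    overRows_58311)
    overRows_59334)
    overRows_60357)

theorem overTo4 : ∀ i, i < 76725 → overRow i = true :=
  (allFrom_extend (allFrom_extend (allFrom_extend (allFrom_extend (allFrom_extend (allFrom_extend (allFrom_extend (allFrom_extend (allFrom_extend (allFrom_extend (allFrom_extend (allFrom_extend (allFrom_extend (allFrom_extend (allFrom_extend overTo3
    overRows_61380)
    overRows_62403)
    overRows_63426)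
    overRows_64449)
    overRows_65472)
    overRows_66495)
    overRows_67518)
    overRows_68541)
    overRows_69564)
    overRows_70587)
    overRows_71610)
    overRows_72633)
    overRows_73656)
    overRows_74679)
    overRows_75702)

theorem overTo5 : ∀ i, i < 92070 → overRow i = true :=
  (allFrom_extend (allFrom_extend (allFrom_extend (allFrom_extend (allFrom_extend (allFrom_extend (allFrom_extend (allFrom_extend (allFrom_extend (allFrom_extend (allFrom_extend (allFrom_extend (allFrom_extend (allFrom_extend (allFrom_extend overTo4
    overRows_76725)
    overRows_77748)
    overRows_78771)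
    overRows_79794)
    overRows_80817)
    overRows_81840)
    overRows_82863)
    overRows_83886)
    overRows_84909)
    overRows_85932)
    overRows_86955)
    overRows_87978)
    overRows_89001)
    overRows_90024)
    overRows_91047)

theorem overTo6 : ∀ i, i < 107415 → overRow i = true :=
  (allFrom_extend (allFrom_extend (allFrom_extend (allFrom_extend (allFrom_extend (allFrom_extend (allFrom_extend (allFrom_extend (allFrom_extend (allFrom_extend (allFrom_extend (allFrom_extend (allFrom_extend (allFrom_extend (allFrom_extend overTo5
    overRows_92070)
    overRows_93093)
    overRows_94116)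
    overRows_95139)
    overRows_96162)
    overRows_97185)
    overRows_98208)
    overRows_99231)
    overRows_100254)
    overRows_101277)
    overRows_102300)
    overRows_103323)
    overRows_104346)
    overRows_105369)
    overRows_106392)

theorem overTo7 : ∀ i, i < 122760 → overRow i = true :=
  (allFrom_extend (allFrom_extend (allFrom_extend (allFrom_extend (allFrom_extend (allFrom_extend (allFrom_extend (allFrom_extend (allFrom_extend (allFrom_extend (allFrom_extend (allFrom_extend (allFrom_extend (allFrom_extend (allFrom_extend overTo6
    overRows_107415)
    overRows_108438)
    overRows_109461)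
    overRows_110484)
    overRows_111507)
    overRows_112530)
    overRows_113553)
    overRows_114576)
    overRows_115599)
    overRows_116622)
    overRows_117645)
    overRows_118668)
    overRows_119691)
    overRows_120714)
    overRows_121737)

theorem overTo : ∀ i, i < 122760 → overRow i = true := overTo7

end Cfsg.Agent.H9.ON
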