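import Cfsg.Agent.H9.ON.WordFacts

/-!
The O'Nan group: words for Sylow subgroups, conjugations and the certificates of the kernel bounds.
-/

set_option autoImplicit false
set_option maxRecDepth 100000

namespace Cfsg.Agent.H9.ON

open Cfsg.Agent.H16 Cfsg.Agent.H13.SylMult

/-- The presentation at 2. -/
def pc2 : Pc := ⟨2, 9, 3, [[],[],[],[],[],[],[],[],[],[4],[],[],[],[],[],[],[],[],[3],[6],[],[],[],[],[],[],[],[7],[6],[7],[7],[],[],[],[],[],[5],[5],[6],[7],[5,8],[],[],[],[],[8],[8],[],[],[],[8],[],[],[],[7],[8],[8],[],[8],[],[8],[],[],[],[8],[],[],[],[],[],[],[],[],[],[],[],[],[],[],[],[]], [(2,0),(1,0),(4,0),(3,1),(6,0),(7,1)]⟩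

/-- The certificate at 2. -/
def cert2 : Cert where
  fuel := 28
  k := 0
  e := 1
  eqns := [
    .fus 0 [[1,5],[5,7]] [[2,3,7],[5,7]] [1,0],
    .fus 1 [[2,3,6,8],[1]] [[1,2,3,7,8],[1,2,3,5,6,8]] [1,0],
    .fus 2 [[2,4,6,7,8],[5]] [[2,4,5],[3,7]] [1,0],
    .assoc [1] [1,0],
    .assoc [1] [0,0],
    .assoc [2] [2,0],
    .assoc [2] [0,0],
    .assoc [2] [1,0],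
    .assoc [2] [2,1],
    .assoc [2] [1,1],
    .assoc [3] [3,0],
    .assoc [3] [0,0],
    .assoc [3] [1,0],
    .assoc [3] [3,1],
    .assoc [3] [2,0],
    .assoc [3] [2,1],
    .assoc [4] [4,0],
    .assoc [4] [0,0],
    .assoc [4] [1,0],
    .assoc [4] [4,1],
    .assoc [4] [1,1],
    .assoc [4] [2,0],
    .assoc [4] [2,1],
    .assoc [4] [4,2],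
    .assoc [4] [2,2],
    .assoc [4] [3,0],
    .assoc [4] [3,1],
    .assoc [4] [3,2],
    .assoc [4] [4,3],
    .assoc [4] [3,3],
    .assoc [4] [4,4],
    .assoc [5] [5,0],
    .assoc [5] [2,0],
    .assoc [5] [2,1],
    .assoc [5] [3,0],
    .assoc [6] [6,0]]
  rows := [
    [0,0,0,0,0,0,0,0,0,-1,1,1,0,0,0,0,0,0,0,0,0,1,1,0,-2,0,0,0,0,0,0,0,0,0,-1,-1],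
    [1,0,0,0,0,0,0,0,0,1,1,1,0,0,2,1,2,0,0,1,0,-1,1,0,1,1,0,0,1,-1,0,0,0,0,0,2],
    [0,0,1,0,0,0,-1,0,0,0,-1,-1,-1,0,0,0,0,0,1,0,0,1,0,0,0,0,0,0,0,0,0,0,1,0,0,0],
    [0,0,0,0,-1,0,0,-1,0,0,0,0,-1,-1,0,0,0,0,0,0,0,0,0,0,0,0,0,0,0,0,0,0,-1,0,0,-1],
    [0,0,0,0,0,0,0,1,0,0,0,0,0,1,0,0,0,0,0,0,0,0,0,0,0,0,0,0,0,0,0,0,1,0,0,1],
    [0,0,-1,-1,0,0,0,0,0,0,0,0,0,0,0,0,0,0,0,0,0,0,-1,0,0,0,-1,0,0,0,0,0,0,0,0,0],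
    [0,1,0,1,0,0,0,0,0,0,0,0,0,0,0,0,0,0,0,0,0,0,0,0,0,0,1,0,0,0,0,0,0,0,0,0],
    [0,0,0,0,0,1,1,0,0,0,0,0,0,0,0,0,0,0,0,0,0,0,0,0,0,2,1,0,0,0,0,-1,0,0,2,0],
    [-2,0,0,0,0,0,0,0,0,0,0,0,0,0,0,-1,0,0,0,-1,0,0,0,0,0,0,0,0,0,0,0,0,0,-1,0,-1],
    [2,0,0,0,0,0,0,0,0,0,0,0,0,0,1,0,0,0,0,1,0,0,0,0,0,0,0,0,0,0,0,0,0,0,0,1],
    [0,-2,0,0,0,0,0,0,0,0,0,0,0,0,0,0,0,0,0,0,1,0,-1,0,0,0,-1,0,0,0,0,0,0,0,0,0],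
    [0,2,0,0,0,0,0,0,0,0,0,0,0,0,0,0,0,0,0,0,1,0,0,0,0,0,1,0,0,0,0,0,0,0,0,0],
    [0,0,0,0,0,0,1,0,0,0,0,0,0,0,0,0,0,-1,0,0,0,0,0,-1,0,0,1,0,0,0,0,-1,0,0,-1,-1],
    [0,0,0,0,0,0,0,0,0,0,0,0,0,0,0,0,-1,0,0,-1,0,0,0,0,0,-2,0,0,0,0,0,0,0,0,-1,0],
    [0,0,0,0,0,0,0,0,0,0,0,0,0,0,0,0,0,0,0,0,1,-1,0,0,0,0,0,0,0,0,0,0,0,0,0,0],
    [0,0,0,0,0,0,0,0,0,0,0,0,0,0,0,-1,1,0,0,0,0,0,0,0,0,-2,0,0,0,0,0,0,0,-1,0,0],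
    [0,0,0,0,0,0,0,0,1,0,0,0,-1,-1,0,0,0,0,0,0,0,0,0,0,0,0,0,1,0,0,0,0,-1,0,0,0],
    [0,0,0,0,0,0,0,0,1,0,0,0,0,1,0,0,0,0,0,0,0,0,0,0,0,0,0,0,0,0,0,0,0,0,0,1],
    [0,0,0,0,0,0,0,0,1,-1,0,0,0,0,0,0,0,0,0,0,0,0,0,0,0,0,0,0,0,0,0,0,1,0,0,0],
    [0,0,0,0,-2,0,0,0,0,1,0,0,-1,-1,0,0,0,0,0,0,0,0,0,0,0,0,0,0,1,0,0,0,-1,0,0,0],
    [0,0,0,0,2,0,0,0,0,1,0,0,0,1,0,0,0,0,0,0,0,0,0,0,0,0,0,0,0,0,0,0,0,0,0,1],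
    [0,0,0,0,0,0,-1,0,0,0,-1,-1,0,0,0,0,-1,0,-1,0,0,0,0,0,-1,-1,0,0,0,0,0,0,0,0,0,0],
    [0,0,0,0,0,0,0,0,0,0,-1,0,0,0,1,0,0,1,0,0,0,0,0,0,0,0,0,0,0,0,0,0,1,1,0,1],
    [0,0,0,0,0,-2,0,0,0,0,1,0,0,0,0,0,0,-1,0,-1,0,0,0,0,0,0,0,0,0,1,0,0,0,-1,0,-1],
    [0,0,0,0,0,2,0,0,0,0,0,0,0,0,0,1,0,0,0,1,0,0,0,0,0,0,0,0,0,0,0,0,0,0,0,1],
    [0,0,0,0,0,0,0,0,0,0,0,-1,0,0,0,0,0,0,0,0,1,0,0,1,0,0,0,0,0,0,0,0,0,0,0,0],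
    [0,0,0,0,0,0,0,0,0,0,0,-1,0,0,0,0,0,1,1,0,0,0,0,0,-1,-1,0,0,0,0,0,0,1,0,1,1],
    [0,0,0,0,0,0,0,0,0,0,0,0,0,0,0,0,-1,0,0,0,0,1,0,1,0,0,0,0,0,0,0,0,0,0,0,0],
    [0,0,0,0,0,0,-2,0,0,0,0,1,0,0,0,0,0,0,0,0,0,0,0,-1,0,0,-1,0,0,0,1,0,0,0,-2,0],
    [0,0,0,0,0,0,2,0,0,0,0,0,0,0,0,0,0,0,0,0,0,0,1,1,0,0,1,0,0,0,0,0,0,0,0,0],
    [0,0,0,0,0,0,0,0,0,0,0,0,1,0,0,0,0,0,0,0,0,0,0,0,0,0,0,0,0,0,0,1,0,0,0,0],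
    [0,0,0,0,0,0,0,0,-2,0,0,0,0,0,0,0,0,0,0,0,0,0,0,0,0,0,0,1,0,0,0,0,-1,0,0,-1],
    [0,0,0,0,0,0,0,0,0,0,0,-1,0,0,0,0,0,0,0,0,0,0,0,0,0,0,0,0,0,-1,-1,0,0,0,0,0],
    [0,0,0,0,0,0,0,0,0,0,0,0,0,0,0,0,0,0,1,0,0,0,0,0,0,0,0,0,0,-1,0,0,0,-1,0,0],
    [0,0,0,0,0,0,0,0,0,0,0,0,0,0,0,0,0,0,0,0,0,0,0,0,1,0,0,0,0,0,-1,0,0,0,-1,0],
    [0,0,0,0,0,0,0,0,0,0,0,0,0,0,0,0,0,0,0,0,0,0,0,0,0,-1,-1,1,0,0,0,0,0,0,-2,0]]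
  live := [19,27,29,30,37,38,39,40,45,46,47,48,49,50,55,56,57,58,59,60,63,65,66,67,68,69,70,72,73,74,75,76,77,78,79,80]
  free := [0,10,20]
  top := 19
  combos := [
    (0, [(0,1),(1,1),(8,1),(10,1),(12,1),(15,1),(17,1),(18,1),(19,1),(21,1),(23,1),(24,1),(25,1),(28,1),(29,1),(30,1),(32,1),(33,1)]),
    (0, [(2,1),(5,1),(6,1),(8,1),(11,1),(13,1),(15,1),(16,1),(17,1),(21,1),(25,1),(27,1),(28,1),(29,1),(34,1),(35,1)]),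
    (0, [(2,1),(8,1),(10,1),(13,1),(15,1),(16,1),(17,1),(21,1),(25,1),(27,1),(28,1),(29,1),(34,1),(35,1)]),
    (0, [(2,1),(5,1),(11,1),(12,1),(13,1),(17,1),(18,1),(20,1),(23,1),(25,1),(27,1),(29,1),(30,1),(33,1)]),
    (0, [(3,1),(4,1),(16,1),(17,1),(31,1)]),
    (0, [(7,1),(10,1),(11,1),(12,1),(13,1),(15,1),(24,1),(26,1),(29,1),(31,1),(32,1),(33,1),(34,1),(35,1)]),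
    (0, [(8,1),(10,1),(11,1),(13,1),(17,1),(18,1),(20,1),(21,1),(23,1),(24,1),(26,1),(28,1),(29,1),(32,1)]),
    (0, [(0,1),(4,1),(11,1),(13,1),(17,1),(18,1),(23,1),(25,1),(26,1),(27,1),(28,1),(29,1),(31,1),(33,1),(34,1),(35,1)]),
    (0, [(0,1),(11,1),(13,1),(17,1),(20,1),(23,1),(25,1),(26,1),(27,1),(28,1),(29,1),(31,1),(33,1),(34,1),(35,1)]),
    (0, [(0,1),(11,1),(13,1),(23,1),(25,1),(26,1),(27,1),(28,1),(29,1),(31,1),(33,1),(34,1),(35,1)]),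
    (0, [(11,1),(12,1),(14,1),(16,1),(18,1),(20,1),(21,1),(26,1),(27,1),(30,1),(31,1)]),
    (0, [(10,1),(25,1),(29,1)]),
    (0, [(16,1),(17,1),(31,1)]),
    (0, [(0,1),(9,1),(10,1),(13,1),(17,1),(18,1),(22,1),(25,1),(26,1),(27,1),(31,1),(32,1),(33,1),(34,1),(35,1)]),
    (0, [(8,1),(9,1),(10,1),(14,1),(15,1),(27,1),(29,1)]),
    (0, [(8,1),(10,1),(14,1),(15,1),(24,1),(27,1),(29,1)]),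
    (0, [(10,1),(14,1),(27,1),(29,1)]),
    (0, [(12,1),(15,1),(16,1),(18,1),(20,1),(21,1),(23,1),(24,1),(26,1),(28,1),(30,1),(31,1),(32,1)]),
    (0, [(8,1),(10,1),(11,1),(24,1),(28,1),(29,1),(32,1),(33,1)]),
    (0, [(8,1),(9,1),(11,1),(14,1),(15,1),(17,1),(18,1),(20,1),(22,1),(23,1),(27,1),(28,1),(32,1)]),
    (0, [(8,1),(11,1),(12,1),(15,1),(16,1),(18,1),(20,1),(21,1),(23,1),(28,1),(30,1),(33,1),(34,1),(35,1)]),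
    (0, [(8,1),(11,1),(12,1),(14,1),(15,1),(16,1),(18,1),(20,1),(21,1),(23,1),(28,1),(30,1),(33,1),(34,1),(35,1)]),
    (0, [(10,1),(11,1)]),
    (0, [(8,1),(10,1),(11,1),(12,1),(15,1),(16,1),(18,1),(20,1),(21,1),(23,1),(28,1),(29,1),(30,1),(33,1),(34,1),(35,1)]),
    (0, [(8,1),(9,1),(10,1),(13,1),(15,1),(17,1),(18,1),(20,1),(22,1),(23,1),(25,1),(29,1),(32,1),(34,1)]),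
    (0, [(8,1),(9,1),(10,1),(11,1),(12,1),(15,1),(16,1),(18,1),(20,1),(21,1),(22,1),(29,1),(30,1),(31,1),(32,1),(33,1),(34,1)]),
    (0, [(8,1),(12,1),(15,1),(16,1),(18,1),(20,1),(21,1),(23,1),(28,1),(30,1),(33,1),(34,1),(35,1)]),
    (0, [(9,1),(10,1),(11,1),(22,1),(23,1),(28,1),(29,1),(31,1),(32,1)]),
    (0, [(9,1),(10,1),(11,1),(16,1),(17,1),(19,1),(20,1),(22,1),(23,1),(28,1),(29,1),(31,1),(32,1)]),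
    (0, [(10,1),(11,1),(28,1),(29,1),(32,1)]),
    (0, [(11,1),(25,1),(28,1)]),
    (0, [(16,1),(17,1),(30,1),(31,1)]),
    (0, [(17,1),(18,1),(20,1)]),
    (0, [(8,1),(24,1)]),
    (0, [(8,1),(9,1),(10,1),(11,1),(13,1),(15,1),(17,1),(18,1),(20,1),(22,1),(23,1),(28,1),(29,1),(32,1)]),
    (0, [(9,1),(10,1),(11,1),(17,1),(18,1),(20,1),(22,1),(23,1),(28,1),(29,1),(32,1)])]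
  topCombo := [(0,1),(1,1),(8,1),(10,1),(12,1),(15,1),(17,1),(18,1),(19,1),(21,1),(23,1),(24,1),(25,1),(28,1),(29,1),(30,1),(32,1),(33,1)]

/-- The words at 2. -/
def words2 : WordData := ⟨[
    [1,3,2,3,2,4,3,2,1,3,4,3,4,3,1,2,3,4,2,3,2,0,1,3,4,3,2,5,4,3,2,0,2,3,4,5,2,3,4,3,1,2,1,0,6,2,1,0,6,1,0],
    [4,3,2,1,3,2,1,0,4,3,2,1,0,4,3,2,3,4,3,1,2,3,1,2,3,4,1,3,2,1,0,2,3,0,1,2,4,3,2,1,3,2,1,0,4,3,2,1,0,4,3,2,3,4,3,1,2,3,1,2,3,4,1,3,2,1,0,2,3,0,1,2,4,3,2,1,3,2,1,0,4,3,2,1,0,4,3,2,3,4,3,1,2,3,1,2,3,4,3,4,3,2,5,4,3,2,0,2,3,4,5,2,3,4,3,4,3,2,1,3,2,1,0,4,3,2,1,0,4,3,2,3,4,3,1,2,3,1,2,3,4,1,0,2,3,2,1,4,3,2,5,4,3,2,1,0,3,2,3,4,3,2,1,6,1,2,1,4,3,6],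
    [4,3,2,1,3,2,1,0,4,3,2,1,0,4,3,2,3,4,3,1,2,3,1,2,3,4,3,4,3,2,5,4,3,2,0,2,3,4,5,2,3,4,3,4,3,2,1,3,2,1,0,4,3,2,1,0,4,3,2,3,4,3,1,2,3,1,2,3,4,1,0,2,1,3,4,3,2,1,3,2,1,3,4,3,2,1,0,3,2,1,4],
    [3,4,3,2,5,4,3,2,0,2,3,4,5,2,3,4,3,4,3,2,1,3,2,1,0,4,3,2,1,0,4,3,2,3,4,3,1,2,3,1,2,3,4,1,0,3,4,3,2,1,3,2,1,3,4,3,2,1,0,3,2,1,4,3,5,4,6,1,2,6,1,4,6,1,0,6,1,4],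
    [1,3,2,3,2,4,3,2,1,3,4,3,4,3,1,2,3,4,2,3,2,0,1,1,3,2,1,0,2,3,0,1,2,4,3,2,1,3,2,1,0,4,3,2,1,0,4,3,2,3,4,3,1,2,3,1,2,3,4,1,2,1,0,3,4,3,2,1,0,3,6,1,4,3,2,1,5,4,3,2,3,4,6],
    [1,3,2,3,2,4,3,2,1,3,4,3,4,3,1,2,3,4,2,3,2,0,1,4,3,2,1,3,2,1,0,4,3,2,1,0,4,3,2,3,4,3,1,2,3,1,2,3,4,1,3,2,1,0,2,3,0,1,2,4,3,2,1,3,2,1,0,4,3,2,1,0,4,3,2,3,4,3,1,2,3,1,2,3,4,1,3,2,1,0,2,3,0,1,2,2,4,3,2,1,0,3,2,1,3,4,3,2,1,0,3,2,1,5,4,6,1,2,6,4,6,1,2,3,2,1,6],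
    [1,3,2,3,2,4,3,2,1,3,4,3,4,3,1,2,3,4,2,3,2,0,1,4,3,2,1,3,2,1,0,4,3,2,1,0,4,3,2,3,4,3,1,2,3,1,2,3,4,1,3,2,1,0,2,3,0,1,2,4,3,2,1,3,2,1,0,4,3,2,1,0,4,3,2,3,4,3,1,2,3,1,2,3,4,1,3,2,1,0,2,3,0,1,2,4,3,2,1,3,2,1,0,4,3,2,1,0,4,3,2,3,4,3,1,2,3,1,2,3,4,3,4,3,2,5,4,3,2,0,2,3,4,5,2,3,4,3,1,3,2,1,0,3,4,5,6,3,4,6,1,6,4,6,2,4,3,6,1],
    [1,3,2,3,2,4,3,2,1,3,4,3,4,3,1,2,3,4,2,3,2,0,1,4,3,2,1,3,2,1,0,4,3,2,1,0,4,3,2,3,4,3,1,2,3,1,2,3,4,1,3,2,1,0,2,3,0,1,2,4,3,2,1,3,2,1,0,4,3,2,1,0,4,3,2,3,4,3,1,2,3,1,2,3,4,1,3,2,1,0,2,3,0,1,2,4,3,2,1,3,2,1,0,4,3,2,1,0,4,3,2,3,4,3,1,2,3,1,2,3,4,1,3,2,3,2,4,3,2,1,3,4,3,4,3,1,2,3,4,2,3,2,0,1,4,3,2,1,3,2,1,0,4,3,2,1,0,4,3,2,3,4,3,1,2,3,1,2,3,4,2,1,4,3,2,1,3,2,5,4,3,2,1,3,2,3,4,6,1,4,6,2,4,3,6,1,2,6,4,3],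
    [3,4,3,2,5,4,3,2,0,2,3,4,5,2,3,4,3,4,3,2,1,3,2,1,0,4,3,2,1,0,4,3,2,3,4,3,1,2,3,1,2,3,4,3,4,3,2,1,0,3,2,4,3,5,4,3,2,1,3,6,1,0,3,2,6,4,6,4,5,6,1]], [
    [1,3,2,3,2,4,3,2,1,3,4,3,4,3,1,2,3,4,2,3,2,0,1,4,3,2,1,3,2,1,0,4,3,2,1,0,4,3,2,3,4,3,1,2,3,1,2,3,4,3,4,3,2,5,4,3,2,0,2,3,4,5,2,3,4,3,1,3,2,1,4,3,2,5,4,3,2,1,0,3,2,1,3,2,4,3,2,5,6,1,0,4,6,3,4,3,2,1,5,4],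
    [1,3,2,3,2,4,3,2,1,3,4,3,4,3,1,2,3,4,2,3,2,0,1,4,3,2,1,3,2,1,0,4,3,2,1,0,4,3,2,3,4,3,1,2,3,1,2,3,4,3,4,3,2,5,4,3,2,0,2,3,4,5,2,3,4,3,1,3,2,1,4,3,2,5,4,3,2,1,0,3,2,1,3,2,4,3,2,5,6,1,0,4,6,3,4,3,2,1,5,4],
    [4,3,2,1,3,2,1,0,4,3,2,1,0,4,3,2,3,4,3,1,2,3,1,2,3,4,1,3,2,1,0,2,3,0,1,2,4,3,2,1,3,2,1,0,4,3,2,1,0,4,3,2,3,4,3,1,2,3,1,2,3,4,1,3,2,1,0,2,3,0,1,2,4,3,2,1,3,2,1,0,4,3,2,1,0,4,3,2,3,4,3,1,2,3,1,2,3,4,3,4,3,2,5,4,3,2,0,2,3,4,5,2,3,4,3,1,2,3,2,1,4,3,2,3,2,1,4,3,2,3,2,4,3,5,4,6,3,6,4,6,1,3,6,2,4]], [5,2,1,0]⟩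

/-- The presentation at 3. -/
def pc3 : Pc := ⟨3, 4, 4, [[],[],[],[],[],[],[],[],[],[],[],[],[],[],[],[]], []⟩

/-- The certificate at 3. -/
def cert3 : Cert where
  fuel := 11
  k := 1
  e := 2
  eqns := [
    .fus 0 [[1,2,2,3,3],[2,3]] [[0,1,3,3],[0,1,1,2]] [1,0],
    .fus 1 [[0,1,2,2,3,3],[1,2]] [[0,0,1,3,3],[3,3]] [1,0],
    .fus 2 [[1,3,3],[0,0,2,2]] [[0,0,1,2,2,3,3],[0,2]] [1,0],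
    .fus 3 [[0,1,1,2],[0,3,3]] [[2,3],[0,1,2]] [1,0],
    .fus 4 [[0,1,3],[0,1]] [[0,3,3],[0,3]] [1,0],
    .assoc [1,1] [1,0]]
  rows := [
    [1,1,0,-2,-5,-2],
    [-1,-1,1,4,4,2],
    [1,0,-1,2,0,2],
    [2,0,-1,-3,-5,-3],
    [0,0,0,0,1,0],
    [-3,0,0,0,0,0]]
  live := [4,8,9,12,13,14]
  free := [0,5,10,15]
  top := 4
  combos := [
    (1, []),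
    (0, [(0,1),(2,4),(3,-4),(4,3),(5,2)]),
    (2, [(2,3),(3,-4),(4,-2),(5,2)]),
    (2, [(0,-4),(1,-4),(2,3),(3,2),(4,-3)]),
    (0, [(4,1)]),
    (0, [(0,4),(1,4),(2,-1),(3,-4),(4,2)])]
  topCombo := [(5,2)]

/-- The words at 3. -/
def words3 : WordData := ⟨[
    [4,3,2,1,3,2,1,0,4,3,2,1,0,4,3,2,3,4,3,1,2,3,1,2,3,4,1,3,2,3,2,4,3,2,1,3,4,3,4,3,1,2,3,4,2,3,2,0,1,1,0,2,3,4,3,2,1,3,2,1,3,2,1,4,3,2,3,2,1,0,6,1,6,4,3,6,2,3,4],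
    [1,3,2,3,2,4,3,2,1,3,4,3,4,3,1,2,3,4,2,3,2,0,1,4,3,2,1,3,2,1,0,4,3,2,1,0,4,3,2,3,4,3,1,2,3,1,2,3,4,1,3,2,1,0,2,3,0,1,2,4,3,2,1,3,2,1,0,4,3,2,1,0,4,3,2,3,4,3,1,2,3,1,2,3,4,1,3,2,1,0,2,3,0,1,2,4,3,2,1,3,2,1,0,4,3,2,1,0,4,3,2,3,4,3,1,2,3,1,2,3,4,3,4,3,2,5,4,3,2,0,2,3,4,5,2,3,4,3,1,4,3,2,1,5,4,3,2,3,2,4,3,2,1,3,2,3,4,6,1,4,5,6,1,0,4,5],
    [4,3,2,1,3,2,1,0,4,3,2,1,0,4,3,2,3,4,3,1,2,3,1,2,3,4,1,2,1,4,3,2,3,2,4,3,5,4,5,3,4,2,3,2,3,4,1,2,3,1,1,0,2,1,3,2,1,0,4,3,2,1,3,2,4,3,2,5,4,3,6,4,5,6,1,0,6,1],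
    [1,3,2,3,2,4,3,2,1,3,4,3,4,3,1,2,3,4,2,3,2,0,1,1,3,2,1,0,2,3,0,1,2,4,3,2,1,3,2,1,0,4,3,2,1,0,4,3,2,3,4,3,1,2,3,1,2,3,4,2,1,4,3,2,1,0,3,5,4,3,2,1,0,3,2,1,0,4,3,5,6,2,4,6,4,6,3,4]], [
    [1,3,2,3,2,4,3,2,1,3,4,3,4,3,1,2,3,4,2,3,2,0,1,4,3,2,1,3,2,1,0,4,3,2,1,0,4,3,2,3,4,3,1,2,3,1,2,3,4,1,3,2,3,2,4,3,2,1,3,4,3,4,3,1,2,3,4,2,3,2,0,1,4,3,2,1,3,2,1,0,4,3,2,1,0,4,3,2,3,4,3,1,2,3,1,2,3,4,1,2,1,3,4,3,2,1,0,3,2,1,0,3,4,3,2,1,0,3,4,6,1,0,4,5,6,1,6,1,0,4,6],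
    [1,3,2,3,2,4,3,2,1,3,4,3,4,3,1,2,3,4,2,3,2,0,1,4,3,2,1,3,2,1,0,4,3,2,1,0,4,3,2,3,4,3,1,2,3,1,2,3,4,1,3,2,3,2,4,3,2,1,3,4,3,4,3,1,2,3,4,2,3,2,0,1,4,3,2,1,3,2,1,0,4,3,2,1,0,4,3,2,3,4,3,1,2,3,1,2,3,4,1,2,1,3,4,3,2,1,0,3,2,1,0,3,4,3,2,1,0,3,4,6,1,0,4,5,6,1,6,1,0,4,6],
    [1,3,2,3,2,4,3,2,1,3,4,3,4,3,1,2,3,4,2,3,2,0,1,4,3,2,1,3,2,1,0,4,3,2,1,0,4,3,2,3,4,3,1,2,3,1,2,3,4,1,3,2,3,2,4,3,2,1,3,4,3,4,3,1,2,3,4,2,3,2,0,1,4,3,2,1,3,2,1,0,4,3,2,1,0,4,3,2,3,4,3,1,2,3,1,2,3,4,1,2,1,3,4,3,2,1,0,3,2,1,0,3,4,3,2,1,0,3,4,6,1,0,4,5,6,1,6,1,0,4,6],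
    [1,3,2,3,2,4,3,2,1,3,4,3,4,3,1,2,3,4,2,3,2,0,1,4,3,2,1,3,2,1,0,4,3,2,1,0,4,3,2,3,4,3,1,2,3,1,2,3,4,1,3,2,3,2,4,3,2,1,3,4,3,4,3,1,2,3,4,2,3,2,0,1,4,3,2,1,3,2,1,0,4,3,2,1,0,4,3,2,3,4,3,1,2,3,1,2,3,4,1,2,1,3,4,3,2,1,0,3,2,1,0,3,4,3,2,1,0,3,4,6,1,0,4,5,6,1,6,1,0,4,6],
    [4,3,2,1,3,2,1,0,4,3,2,1,0,4,3,2,3,4,3,1,2,3,1,2,3,4,1,3,2,1,0,2,3,0,1,2,4,3,2,1,3,2,1,0,4,3,2,1,0,4,3,2,3,4,3,1,2,3,1,2,3,4,1,3,2,1,0,2,3,0,1,2,4,3,2,1,3,2,1,0,4,3,2,1,0,4,3,2,3,4,3,1,2,3,1,2,3,4,1,3,2,3,2,4,3,2,1,3,4,3,4,3,1,2,3,4,2,3,2,0,1,4,3,2,1,3,2,1,0,4,3,2,1,0,4,3,2,3,4,3,1,2,3,1,2,3,4,1,0,2,1,3,2,1,0,3,4,3,2,1,5,4,3,2,6,4,6,1,2,6,1,3,4,3,2,1]], [5,2,1,0]⟩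

/-- The presentation at 7. -/
def pc7 : Pc := ⟨7, 3, 2, [[],[],[],[2],[],[],[],[],[]], [(1,0)]⟩

/-- The certificate at 7. -/
def cert7 : Cert where
  fuel := 88
  k := 0
  e := 1
  eqns := [
    .fus 0 [[0,1,1,2,2,2,2,2,2],[0,0,0,0,0,1,1,1,2,2,2,2,2]] [[0,0,0,0,0,0,1,1,1,1,1,2,2,2],[0,0,1,1,1,1,2,2,2,2]] [1,0],
    .fus 1 [[0,0,0,0,0,0,2,2,2,2,2,2],[2,2,2,2,2]] [[0],[2,2,2,2,2]] [1,0],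
    .assoc [1,1,1,1,1,1] [1,0]]
  rows := [
    [27,-2,3],
    [-25,0,0],
    [0,-21,-1]]
  live := [6,7,8]
  free := [0,4]
  top := 6
  combos := [
    (0, [(1,-2)]),
    (0, [(0,3),(1,1),(2,2)]),
    (0, [(2,-1)])]
  topCombo := [(1,-2)]

/-- The words at 7. -/
def words7 : WordData := ⟨[
    [1,3,2,3,2,4,3,2,1,3,4,3,4,3,1,2,3,4,2,3,2,0,1,4,3,2,1,3,2,1,0,4,3,2,1,0,4,3,2,3,4,3,1,2,3,1,2,3,4,3,4,3,2,5,4,3,2,0,2,3,4,5,2,3,4,3,2,1,3,4,3,5],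
    [1,3,2,3,2,4,3,2,1,3,4,3,4,3,1,2,3,4,2,3,2,0,1,4,3,2,1,3,2,1,0,4,3,2,1,0,4,3,2,3,4,3,1,2,3,1,2,3,4,1,3,2,3,2,4,3,2,1,3,4,3,4,3,1,2,3,4,2,3,2,0,1,1,0,3,2,1,0],
    [3,4,3,2,5,4,3,2,0,2,3,4,5,2,3,4,3,1,4,3,2,1,0,3,2,5,4,3,2,1,3,2,3,4]], [
    [1,3,2,3,2,4,3,2,1,3,4,3,4,3,1,2,3,4,2,3,2,0,1,4,3,2,1,3,2,1,0,4,3,2,1,0,4,3,2,3,4,3,1,2,3,1,2,3,4,1,2,1,4,3,2,3,2,4,3,5,4,5,3,4,2,3,2,3,4,1,2,3,1,4,3,2,1,3,2,1,0,4,3,2,1,0,4,3,2,3,4,3,1,2,3,1,2,3,4,4,3,2,1,0,3,2,1,3,4,3,2,1,3,2,1,3,4,5],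
    [1,3,2,3,2,4,3,2,1,3,4,3,4,3,1,2,3,4,2,3,2,0,1,4,3,2,1,3,2,1,0,4,3,2,1,0,4,3,2,3,4,3,1,2,3,1,2,3,4,1,2,1,4,3,2,3,2,4,3,5,4,5,3,4,2,3,2,3,4,1,2,3,1,4,3,2,1,3,2,1,0,4,3,2,1,0,4,3,2,3,4,3,1,2,3,1,2,3,4,4,3,2,1,0,3,2,1,3,4,3,2,1,3,2,1,3,4,5]], [5,2,1,0]⟩

end Cfsg.Agent.H9.ON
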